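import Mathlib
import Cfsg.Agent.Helper8.StdForms
import Cfsg.Agent.Helper8.SiegelGroup
import Cfsg.Agent.Helper9.Fi22U.Vec

set_option autoImplicit false

/-!
Coded vectors of length 7 over the field with three elements (two bits for a coordinate), the
quadratic form `x₀² + x₁y₁ + x₂y₂ + x₃y₃` and the reflections on the codes.
-/

namespace Cfsg.Agent.Helper9.Fi22O

open Cfsg Cfsg.Agent.Helper9.J3 Cfsg.Agent.Helper9.J3C Cfsg.Agent.Helper9.Fi22U
open Cfsg.Agent.Helper8.StdForms Cfsg.Agent.Helper8.Reflections Cfsg.Agent.Helper8.OrthOrder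
open Cfsg.Agent.Helper8.SiegelGroup

/-- the index set of the coordinates. -/
abbrev I7 : Type := Unit ⊕ (Fin 3 ⊕ Fin 3)

/-- the space. -/
abbrev V7 : Type := I7 → ZMod 3

/-- the quadratic form. -/
noncomputable abbrev Q3 : QuadraticForm (ZMod 3) V7 := oddForm (ZMod 3) 3

/-- the isometry group. -/
abbrev IQ : Type := ↥(Isom Q3)

/-- the position of a coordinate in a code. -/
def ix : I7 → ℕ
  | Sum.inl _ => 0
  | Sum.inr (Sum.inl i) => 1 + i.val
  | Sum.inr (Sum.inr i) => 4 + i.val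

/-- the vector with a given code. -/
def decO (c : ℕ) : V7 := fun i => ((crd c (ix i) : ℕ) : ZMod 3)

theorem decO_apply (c : ℕ) (i : I7) : decO c i = ((crd c (ix i) : ℕ) : ZMod 3) := rfl

/-- the value of the form on a coded vector. -/
def QC (c : ℕ) : ℕ :=
  Nat.mod (Nat.add (Nat.add (Nat.add (Nat.mul (crd c 0) (crd c 0)) (Nat.mul (crd c 1) (crd c 4)))
    (Nat.mul (crd c 2) (crd c 5))) (Nat.mul (crd c 3) (crd c 6))) 3

theorem QC_eq (c : ℕ) : QC c =
    (crd c 0 * crd c 0 + crd c 1 * crd c 4 + crd c 2 * crd c 5 + crd c 3 * crd c 6) % 3 := rfl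

theorem QC_lt (c : ℕ) : QC c < 3 := Nat.mod_lt _ (by norm_num)

theorem QC_spec (c : ℕ) : ((QC c : ℕ) : ZMod 3) = Q3 (decO c) := by
  rw [oddForm_apply, QC_eq, ZMod.natCast_mod]
  unfold quadFormOdd
  rw [Fin.sum_univ_three]
  simp only [decO_apply, ix, Fin.val_zero, Fin.val_one, Fin.val_two, Nat.add_zero, Nat.reduceAdd]
  push_cast
  ring

/-- the value of the polar form on two coded vectors. -/
def polC (c p : ℕ) : ℕ :=
  Nat.mod (Nat.add (Nat.add (Nat.add (Nat.add (Nat.add (Nat.add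
    (Nat.mul 2 (Nat.mul (crd c 0) (crd p 0)))
    (Nat.mul (crd c 1) (crd p 4))) (Nat.mul (crd c 4) (crd p 1)))
    (Nat.mul (crd c 2) (crd p 5))) (Nat.mul (crd c 5) (crd p 2)))
    (Nat.mul (crd c 3) (crd p 6))) (Nat.mul (crd c 6) (crd p 3))) 3

theorem polC_eq (c p : ℕ) : polC c p =
    (2 * (crd c 0 * crd p 0) + crd c 1 * crd p 4 + crd c 4 * crd p 1 + crd c 2 * crd p 5 +
      crd c 5 * crd p 2 + crd c 3 * crd p 6 + crd c 6 * crd p 3) % 3 := rfl

theorem polC_spec (c p : ℕ) :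
    ((polC c p : ℕ) : ZMod 3) = QuadraticMap.polar Q3 (decO c) (decO p) := by
  rw [polar_oddForm, polC_eq, ZMod.natCast_mod]
  rw [Fin.sum_univ_three, Fin.sum_univ_three]
  simp only [decO_apply, ix, Fin.val_zero, Fin.val_one, Fin.val_two, Nat.add_zero, Nat.reduceAdd]
  push_cast
  ring

/-- the code with given coordinates. -/
def mk7 (f : ℕ → ℕ) : ℕ :=
  Nat.add (f 0) (Nat.mul 4 (Nat.add (f 1) (Nat.mul 4 (Nat.add (f 2) (Nat.mul 4 (Nat.add (f 3)
    (Nat.mul 4 (Nat.add (f 4) (Nat.mul 4 (Nat.add (f 5) (Nat.mul 4 (f 6))))))))))))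

theorem mk7_eq (f : ℕ → ℕ) : mk7 f =
    f 0 + 4 * (f 1 + 4 * (f 2 + 4 * (f 3 + 4 * (f 4 + 4 * (f 5 + 4 * f 6))))) := rfl

theorem crd_mk7 (f : ℕ → ℕ) (hf : ∀ k, f k < 4) {k : ℕ} (hk : k < 7) : crd (mk7 f) k = f k := by
  rw [crd_eq, mk7_eq]
  have h0 := hf 0
  have h1 := hf 1
  have h2 := hf 2
  have h3 := hf 3
  have h4 := hf 4
  have h5 := hf 5
  have h6 := hf 6
  interval_cases k
  · norm_num
    omega
  · norm_num
    omega
  · norm_num
    omega
  · norm_num
    omega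
  · norm_num
    omega
  · norm_num
    omega
  · norm_num
    omega

theorem mk7_lt (f : ℕ → ℕ) (hf : ∀ k, f k < 4) : mk7 f < 16384 := by
  rw [mk7_eq]
  have h0 := hf 0
  have h1 := hf 1
  have h2 := hf 2
  have h3 := hf 3
  have h4 := hf 4
  have h5 := hf 5
  have h6 := hf 6
  omega

theorem ix_lt (i : I7) : ix i < 7 := by
  rcases i with _ | i | i
  · exact Nat.succ_pos _
  · have := i.isLt
    simp only [ix]
    omega
  · have := i.isLt
    simp only [ix]
    omega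

/-- a coordinate of the sum of a coded vector and a multiple of a coded vector. -/
def rfD (c x s k : ℕ) : ℕ := Nat.mod (Nat.add (crd x k) (Nat.mul s (crd c k))) 3

theorem rfD_eq (c x s k : ℕ) : rfD c x s k = (crd x k + s * crd c k) % 3 := rfl

theorem rfD_lt (c x s k : ℕ) : rfD c x s k < 4 :=
  lt_trans (Nat.mod_lt _ (by norm_num)) (by norm_num)

/-- the sum of a coded vector and a multiple of a coded vector. -/
def rfS (c x s : ℕ) : ℕ := mk7 (rfD c x s)

/-- the multiple in a reflection. -/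
def rfM (c x : ℕ) : ℕ := Nat.mod (Nat.mul (Nat.mul 2 (polC c x)) (QC c)) 3

theorem rfM_eq (c x : ℕ) : rfM c x = 2 * polC c x * QC c % 3 := rfl

/-- the image of a coded vector under the reflection in a coded vector. -/
def rfK (c x : ℕ) : ℕ := sapp (rfS c x) (rfM c x)

theorem rfK_eq (c x : ℕ) : rfK c x = rfS c x (rfM c x) := sapp_eq _ _

theorem zmod3_sq : ∀ a : ZMod 3, a ≠ 0 → a * a = 1 := by decide

theorem zmod3_inv (a : ZMod 3) (ha : a ≠ 0) : a⁻¹ = a :=
  inv_eq_of_mul_eq_one_left (zmod3_sq a ha)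

theorem QC_ne {c : ℕ} (hc : QC c ≠ 0) : Q3 (decO c) ≠ 0 := by
  rw [← QC_spec]
  intro h
  rw [ZMod.natCast_eq_zero_iff] at h
  have := QC_lt c
  have := Nat.le_of_dvd (Nat.pos_of_ne_zero hc) h
  omega

theorem decO_rfS (c x s : ℕ) : decO (rfS c x s) = decO x + ((s : ℕ) : ZMod 3) • decO c := by
  funext i
  unfold rfS
  rw [decO_apply, crd_mk7 _ (rfD_lt c x _) (ix_lt i), rfD_eq, ZMod.natCast_mod, Pi.add_apply,
    Pi.smul_apply, decO_apply, decO_apply, smul_eq_mul]
  push_cast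
  ring

theorem decO_sub (w u : ℕ) : decO (rfS u w 2) = decO w - decO u := by
  rw [decO_rfS]
  have h2 : ((2 : ℕ) : ZMod 3) = -1 := by decide
  rw [h2, neg_smul, one_smul, sub_eq_add_neg]

theorem decO_rfK (c x : ℕ) (hc : QC c ≠ 0) : decO (rfK c x) = refl Q3 (decO c) (decO x) := by
  have hq : Q3 (decO c) ≠ 0 := QC_ne hc
  funext i
  rw [refl_apply, div_eq_mul_inv, zmod3_inv _ hq, ← QC_spec, ← polC_spec, decO_apply, rfK_eq]
  unfold rfS
  rw [crd_mk7 _ (rfD_lt c x _) (ix_lt i), rfD_eq, ZMod.natCast_mod, rfM_eq]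
  rw [Pi.sub_apply, Pi.smul_apply, decO_apply, decO_apply, smul_eq_mul]
  rw [Nat.cast_add, Nat.cast_mul, ZMod.natCast_mod]
  push_cast
  have h2 : (2 : ZMod 3) = -1 := by decide
  rw [h2]
  ring

/-- a coordinate of the negative of a coded vector. -/
def ngD (x k : ℕ) : ℕ := Nat.mod (Nat.mul 2 (crd x k)) 3

theorem ngD_eq (x k : ℕ) : ngD x k = (2 * crd x k) % 3 := rfl

theorem ngD_lt (x k : ℕ) : ngD x k < 4 := lt_trans (Nat.mod_lt _ (by norm_num)) (by norm_num)

/-- the negative of a coded vector. -/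
def ngK (x : ℕ) : ℕ := mk7 (ngD x)

theorem decO_ngK (x : ℕ) : decO (ngK x) = -decO x := by
  funext i
  unfold ngK
  rw [Pi.neg_apply, decO_apply, decO_apply, crd_mk7 _ (ngD_lt x) (ix_lt i), ngD_eq,
    ZMod.natCast_mod]
  push_cast
  have h2 : (2 : ZMod 3) = -1 := by decide
  rw [h2]
  ring

/-- the second coded vector is the first or its negative. -/
def propS (c' c : ℕ) : Bool := orB (Nat.beq c c') (Nat.beq c (ngK c'))

theorem propS_spec {c' c : ℕ} (h : propS c' c = true) :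
    ∃ μ : ZMod 3, μ ≠ 0 ∧ decO c = μ • decO c' := by
  rcases orB_true h with h | h
  · refine ⟨1, one_ne_zero, ?_⟩
    rw [Nat.eq_of_beq_eq_true h, one_smul]
  · refine ⟨-1, by decide, ?_⟩
    rw [Nat.eq_of_beq_eq_true h, decO_ngK, neg_smul, one_smul]

/-- the coordinates of a vector by position. -/
def cof (p : V7) : ℕ → ℕ
  | 0 => (p (Sum.inl ())).val
  | 1 => (p (Sum.inr (Sum.inl 0))).val
  | 2 => (p (Sum.inr (Sum.inl 1))).val
  | 3 => (p (Sum.inr (Sum.inl 2))).val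
  | 4 => (p (Sum.inr (Sum.inr 0))).val
  | 5 => (p (Sum.inr (Sum.inr 1))).val
  | 6 => (p (Sum.inr (Sum.inr 2))).val
  | _ => 0

theorem val_lt4 (a : ZMod 3) : a.val < 4 := lt_trans (ZMod.val_lt a) (by norm_num)

theorem cof_lt (p : V7) (k : ℕ) : cof p k < 4 := by
  rcases k with _ | _ | _ | _ | _ | _ | _ | k
  · exact val_lt4 _
  · exact val_lt4 _
  · exact val_lt4 _
  · exact val_lt4 _
  · exact val_lt4 _
  · exact val_lt4 _
  · exact val_lt4 _
  · exact Nat.succ_pos 3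

theorem cof_ix (p : V7) (i : I7) : cof p (ix i) = (p i).val := by
  rcases i with _ | i | i
  · rfl
  · fin_cases i <;> rfl
  · fin_cases i <;> rfl

/-- the code of a vector. -/
def encO (p : V7) : ℕ := mk7 (cof p)

theorem encO_lt (p : V7) : encO p < 16384 := mk7_lt _ (cof_lt p)

theorem decO_encO (p : V7) : decO (encO p) = p := by
  funext i
  rw [decO_apply]
  unfold encO
  rw [crd_mk7 _ (cof_lt p) (ix_lt i), cof_ix]
  exact ZMod.natCast_zmod_val _

end Cfsg.Agent.Helper9.Fi22O
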