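import Mathlib
import Cfsg.Agent.Helper5.Fi22cTCSum
import Cfsg.Agent.Helper9.Fi22U.Chk
import Cfsg.Agent.Helper9.Fi22O.Data
import Cfsg.Agent.Helper9.Fi22O.Vec

set_option autoImplicit false
set_option Elab.async false

/-!
Kernel checks for the subgroup generated by the last eight letters of the Fischer group on 3510
points: the letters act on the labels as reflections, the tree, and the points of the coded
vectors on which the form takes the value two.
-/

namespace Cfsg.Agent.Helper9.Fi22O

open Cfsg.Agent.Helper9.J3 Cfsg.Agent.Helper9.J3C Cfsg.Agent.Helper5.TC Cfsg.Agent.Helper5.Fi22cTC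
open Cfsg.Agent.Helper9.Fi22U (orB orB_true impB impB_true)

/-- a point has a label. -/
def isL (v : ℕ) : Bool := Nat.blt (labF v) 16384

theorem isL_iff (v : ℕ) : isL v = true ↔ labF v < 16384 := by
  unfold isL
  rw [Nat.blt_eq]

/-- a letter acts on the labels as a reflection. -/
def chk1 (g : ℕ) (v : ℕ) : Bool :=
  impB (isL v) (sapp (fun u => andB (isL u) (propS (labF u) (rfK (gvO g) (labF v)))) (ctF g v))

/-- the tree. -/
def chkT (v : ℕ) : Bool :=
  impB (isL v) (orB (Nat.beq v 2)
    (sapp (fun p => andB (Nat.blt p 3510) (andB (isL p) (andB (Nat.blt (depF p) (depF v))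
      (sapp (fun x => andB (Nat.blt 0 x) (andB (Nat.blt x 9) (Nat.beq (ctF x p) v))) (genF v)))))
      (parF v)))

/-- the points of the coded vectors on which the form takes the value two. -/
def chkF (c : ℕ) : Bool :=
  impB (Nat.beq (QC c) 2) (sapp (fun n => sapp (fun p => andB (Nat.blt p 3510)
    (andB (isL p) (propS (labF p) n))) (flagF n)) (ngK (ngK c)))

set_option maxRecDepth 1000000 in
theorem chk1_all : allB (fun g => allB (chk1 (Nat.succ g)) 3510) 8 = true := by decide +kernel

set_option maxRecDepth 1000000 in
theorem chkT_all : allB chkT 3510 = true := by decide +kernel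

set_option maxRecDepth 1000000 in
theorem chkF_all : allB chkF 16384 = true := by decide +kernel

theorem gv_Q : allB (fun g => Nat.beq (QC (gvO (Nat.succ g))) 2) 8 = true := by decide +kernel

theorem root_lab : labF 2 = gvO 1 := by decide +kernel

end Cfsg.Agent.Helper9.Fi22O
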