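import Mathlib
import Cfsg.Agent.Helper9.Fi22O.Vec

set_option autoImplicit false

/-!
The negatives of the reflections in the vectors on which the form `x₀² + x₁y₁ + x₂y₂ + x₃y₃` over
the field with three elements takes the value `-1`: they lie in the commutator subgroup of the
isometry group.
-/

namespace Cfsg.Agent.Helper9.Fi22O

open Cfsg Cfsg.Agent.Helper9.J3 Cfsg.Agent.Helper9.J3C Cfsg.Agent.Helper9.Fi22U
open Cfsg.Agent.Helper8.StdForms Cfsg.Agent.Helper8.Reflections Cfsg.Agent.Helper8.OrthOrder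
open Cfsg.Agent.Helper8.SiegelGroup

/-- minus the identity. -/
noncomputable def negI : IQ :=
  ⟨LinearEquiv.neg (ZMod 3), fun v => by rw [LinearEquiv.neg_apply, QuadraticMap.map_neg]⟩

theorem negI_apply (x : V7) : (negI : IQ).1 x = -x := rfl

theorem negI_comm (g : IQ) : g * negI = negI * g := by
  apply Subtype.ext
  apply LinearEquiv.ext
  intro x
  show g.1 (-x) = -(g.1 x)
  exact map_neg _ _

theorem negI_sq : negI * negI = 1 := by
  apply Subtype.ext
  apply LinearEquiv.ext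
  intro x
  show - -x = x
  exact neg_neg x

/-- the negative of the reflection in a vector. -/
noncomputable def tO (v : V7) : IQ := negI * reflG Q3 v

theorem tO_def (v : V7) : tO v = negI * reflG Q3 v := rfl

theorem tO_apply (v x : V7) : (tO v).1 x = -(refl Q3 v x) := rfl

theorem reflG_sq (v : V7) : reflG Q3 v * reflG Q3 v = 1 := by
  apply Subtype.ext
  exact refl_mul_self Q3 v

theorem tO_sq (v : V7) : tO v * tO v = 1 := by
  rw [tO_def]
  calc negI * reflG Q3 v * (negI * reflG Q3 v)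
      = negI * (reflG Q3 v * negI) * reflG Q3 v := by simp only [mul_assoc]
    _ = negI * (negI * reflG Q3 v) * reflG Q3 v := by rw [negI_comm]
    _ = (negI * negI) * (reflG Q3 v * reflG Q3 v) := by simp only [mul_assoc]
    _ = 1 := by rw [negI_sq, reflG_sq, one_mul]

theorem tO_inv (v : V7) : (tO v)⁻¹ = tO v := inv_eq_of_mul_eq_one_right (tO_sq v)

theorem tO_conj (g : IQ) (v : V7) : g * tO v * g⁻¹ = tO (g.1 v) := by
  rw [tO_def, tO_def, ← reflG_conj]
  calc g * (negI * reflG Q3 v) * g⁻¹ = (g * negI) * reflG Q3 v * g⁻¹ := by simp only [mul_assoc]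
    _ = (negI * g) * reflG Q3 v * g⁻¹ := by rw [negI_comm]
    _ = negI * (g * reflG Q3 v * g⁻¹) := by simp only [mul_assoc]

theorem tO_smul {μ : ZMod 3} (hμ : μ ≠ 0) (v : V7) : tO (μ • v) = tO v := by
  rw [tO_def, tO_def]
  congr 1
  apply Subtype.ext
  exact Cfsg.Agent.Helper8.OmegaOdd.refl_smul Q3 hμ v

theorem tO_neg (v : V7) : tO (-v) = tO v := by
  have h := tO_smul (μ := -1) (by decide) v
  rwa [neg_smul, one_smul] at h

/-- the commutator subgroup of the isometry group. -/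
noncomputable abbrev OmA : Subgroup IQ := commutator IQ

instance : OmA.Normal := by
  unfold OmA
  infer_instance

theorem refl_mul_mem {u w : V7} (h : Q3 u = Q3 w) (hz : Q3 (w - u) ≠ 0) :
    reflG Q3 u * reflG Q3 w ∈ OmA := by
  have e : reflG Q3 w = reflG Q3 (w - u) * reflG Q3 u * (reflG Q3 (w - u))⁻¹ := by
    rw [reflG_conj]
    congr 1
    exact (refl_sub Q3 h hz).symm
  have h1 := Subgroup.commutator_mem_commutator (Subgroup.mem_top (reflG Q3 u))
    (Subgroup.mem_top (reflG Q3 (w - u)))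
  rw [commutatorElement_def, reflG_inv Q3 u] at h1
  have e2 : reflG Q3 u * reflG Q3 w =
      reflG Q3 u * reflG Q3 (w - u) * reflG Q3 u * (reflG Q3 (w - u))⁻¹ := by
    rw [e]
    simp only [mul_assoc]
  rw [e2]
  unfold OmA
  rw [commutator_def]
  exact h1

/-- the product of six reflections against the negative of a reflection, on the codes. -/
def chkN (c : ℕ) : Bool :=
  Nat.beq (ngK (rfK 8256 c)) (rfK 1 (rfK 4160 (rfK 260 (rfK 1040 (rfK 2580 (rfK 1572 c))))))

set_option maxRecDepth 1000000 in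
theorem chkN_all : allB chkN 16384 = true := by decide +kernel

theorem QC_vals : QC 8256 = 2 ∧ QC 1 = 1 ∧ QC 4160 = 1 ∧ QC 260 = 1 ∧ QC 1040 = 1 ∧ QC 2580 = 1 ∧
    QC 1572 = 1 := by decide +kernel

/-- the vector of the root. -/
def w3 : V7 := decO 8256

theorem Q_w3 : Q3 w3 = -1 := by
  unfold w3
  rw [← QC_spec, QC_vals.1]
  decide

theorem tO_w3_eq : tO w3 = (reflG Q3 (decO 1) * reflG Q3 (decO 4160)) *
    (reflG Q3 (decO 260) * reflG Q3 (decO 1040)) *
    (reflG Q3 (decO 2580) * reflG Q3 (decO 1572)) := by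
  obtain ⟨h0, h1, h2, h3, h4, h5, h6⟩ := QC_vals
  apply Subtype.ext
  apply LinearEquiv.ext
  intro x
  rw [tO_apply]
  show _ = refl Q3 (decO 1) (refl Q3 (decO 4160) (refl Q3 (decO 260) (refl Q3 (decO 1040)
    (refl Q3 (decO 2580) (refl Q3 (decO 1572) x)))))
  have hx := Nat.eq_of_beq_eq_true (allB_true chkN_all (encO_lt x))
  rw [← decO_encO x]
  unfold w3
  rw [← decO_rfK _ _ (by rw [h0]; norm_num), ← decO_ngK, hx,
    decO_rfK _ _ (by rw [h1]; norm_num), decO_rfK _ _ (by rw [h2]; norm_num),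
    decO_rfK _ _ (by rw [h3]; norm_num), decO_rfK _ _ (by rw [h4]; norm_num),
    decO_rfK _ _ (by rw [h5]; norm_num), decO_rfK _ _ (by rw [h6]; norm_num)]

theorem Q_of_QC {c : ℕ} {n : ℕ} (h : QC c = n) : Q3 (decO c) = (n : ZMod 3) := by
  rw [← QC_spec, h]

theorem QC_subs : QC (rfS 1 4160 2) = 2 ∧ QC (rfS 260 1040 2) = 2 ∧ QC (rfS 2580 1572 2) = 2 := by
  decide +kernel

theorem refl_pair_mem {u w : ℕ} (hu : QC u = 1) (hw : QC w = 1) (hs : QC (rfS u w 2) = 2) :
    reflG Q3 (decO u) * reflG Q3 (decO w) ∈ OmA := by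
  apply refl_mul_mem
  · rw [Q_of_QC hu, Q_of_QC hw]
  · rw [← decO_sub]
    apply QC_ne
    rw [hs]
    norm_num

theorem tO_w3_mem : tO w3 ∈ OmA := by
  obtain ⟨h0, h1, h2, h3, h4, h5, h6⟩ := QC_vals
  obtain ⟨s1, s2, s3⟩ := QC_subs
  rw [tO_w3_eq]
  exact OmA.mul_mem (OmA.mul_mem (refl_pair_mem h1 h2 s1) (refl_pair_mem h3 h4 s2))
    (refl_pair_mem h5 h6 s3)

theorem Q_add_sub (v w : V7) : Q3 (v + w) + Q3 (v - w) = 2 * Q3 v + 2 * Q3 w := by
  rw [sub_eq_add_neg, QuadraticMap.map_add Q3, QuadraticMap.map_add Q3, QuadraticMap.map_neg,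
    QuadraticMap.polar_neg_right]
  ring

/-- the negative of the reflection in a vector on which the form is `-1` is in the commutator
subgroup. -/
theorem tO_mem {v : V7} (hv : Q3 v = -1) : tO v ∈ OmA := by
  by_cases h : Q3 (v - w3) = 0
  · have h2 : Q3 (v + w3) ≠ 0 := by
      have h3 := Q_add_sub v w3
      rw [h, hv, Q_w3, add_zero] at h3
      rw [h3]
      decide
    have e : (reflG Q3 (v + w3)).1 w3 = -v := refl_add Q3 (Q_w3.trans hv.symm) h2
    rw [← tO_neg, ← e, ← tO_conj]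
    exact Subgroup.Normal.conj_mem inferInstance _ tO_w3_mem _
  · have e : (reflG Q3 (v - w3)).1 w3 = v := refl_sub Q3 (Q_w3.trans hv.symm) h
    rw [← e, ← tO_conj]
    exact Subgroup.Normal.conj_mem inferInstance _ tO_w3_mem _

end Cfsg.Agent.Helper9.Fi22O
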