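import Mathlib
import Cfsg.Agent.Helper9.Fi22U.Hom
import Cfsg.Agent.Helper9.Fi22O.Chk
import Cfsg.Agent.Helper9.Fi22O.Elt

set_option autoImplicit false

/-!
The relation between the permutations of the 3510 points and the isometries that act in the same
way on the labels of the 351 points of one orbit: the last eight letters are related to negatives
of reflections.
-/

namespace Cfsg.Agent.Helper9.Fi22O

open Cfsg Cfsg.Spor Cfsg.Agent.Helper5.TC Cfsg.Agent.Helper5.Fi22cTC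
open Cfsg.Agent.Helper9.J3 Cfsg.Agent.Helper9.J3C
open Cfsg.Agent.Helper9.Fi22U (nP sg sg_apply sg_inv sg_sq orB orB_true impB impB_true)
open Cfsg.Agent.Helper8.Reflections Cfsg.Agent.Helper8.OrthOrder Cfsg.Agent.Helper8.SiegelGroup

/-- the label of a point. -/
def lab (x : Fin nP) : ℕ := labF x.val

/-- a permutation and an isometry that act in the same way on the labels. -/
def Inv1 (h : Equiv.Perm (Fin nP)) (m : IQ) : Prop :=
  ∀ pt : Fin nP, lab pt < 16384 → lab (h pt) < 16384 ∧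
    ∃ μ : ZMod 3, μ ≠ 0 ∧ m.1 (decO (lab pt)) = μ • decO (lab (h pt))

theorem inv1_one : Inv1 1 1 := by
  intro pt hpt
  refine ⟨hpt, 1, one_ne_zero, ?_⟩
  rw [one_smul]
  rfl

theorem inv1_mul {h h' : Equiv.Perm (Fin nP)} {m m' : IQ} (a : Inv1 h m) (b : Inv1 h' m') :
    Inv1 (h * h') (m * m') := by
  intro pt hpt
  obtain ⟨h1, μ', hμ', e'⟩ := b pt hpt
  obtain ⟨h2, μ, hμ, e⟩ := a (h' pt) h1
  refine ⟨h2, μ' * μ, mul_ne_zero hμ' hμ, ?_⟩
  show m.1 (m'.1 (decO (lab pt))) = _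
  rw [e', map_smul, e, smul_smul]
  rfl

/-- the pairs of a permutation and an isometry that act in the same way on the labels, with
their inverses. -/
def RO : Subgroup (Equiv.Perm (Fin nP) × IQ) where
  carrier := {p | Inv1 p.1 p.2 ∧ Inv1 p.1⁻¹ p.2⁻¹}
  one_mem' := by
    refine ⟨inv1_one, ?_⟩
    change Inv1 (1 : Equiv.Perm (Fin nP))⁻¹ (1 : IQ)⁻¹
    rw [inv_one, inv_one]
    exact inv1_one
  mul_mem' := by
    rintro ⟨h, m⟩ ⟨h', m'⟩ ⟨a1, a2⟩ ⟨b1, b2⟩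
    refine ⟨inv1_mul a1 b1, ?_⟩
    change Inv1 (h * h')⁻¹ (m * m')⁻¹
    rw [_root_.mul_inv_rev, _root_.mul_inv_rev]
    exact inv1_mul b2 a2
  inv_mem' := by
    rintro ⟨h, m⟩ ⟨a1, a2⟩
    refine ⟨a2, ?_⟩
    change Inv1 (h⁻¹)⁻¹ (m⁻¹)⁻¹
    rw [inv_inv, inv_inv]
    exact a1

theorem mem_RO (h : Equiv.Perm (Fin nP)) (m : IQ) :
    (h, m) ∈ RO ↔ Inv1 h m ∧ Inv1 h⁻¹ m⁻¹ := Iff.rfl

/-! ### the letters -/

theorem gv_Q_spec {g : ℕ} (hg : g < 8) : QC (gvO (g + 1)) = 2 :=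
  Nat.eq_of_beq_eq_true (allB_true gv_Q hg)

theorem chk1_spec {g : ℕ} (hg : g < 8) {v : ℕ} (hv : v < 3510) (hl : labF v < 16384) :
    labF (ctF (g + 1) v) < 16384 ∧
      ∃ μ : ZMod 3, μ ≠ 0 ∧
        decO (rfK (gvO (g + 1)) (labF v)) = μ • decO (labF (ctF (g + 1) v)) := by
  have h1 := impB_true (allB_true (allB_true chk1_all hg) hv) ((isL_iff v).2 hl)
  rw [sapp_eq] at h1
  obtain ⟨h2, h3⟩ := andB_true h1
  exact ⟨(isL_iff _).1 h2, propS_spec h3⟩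

/-- the isometry of a letter. -/
noncomputable def tOg (g : ℕ) : IQ := tO (decO (gvO g))

theorem tOg_def (g : ℕ) : tOg g = tO (decO (gvO g)) := rfl

theorem tOg_inv (g : ℕ) : (tOg g)⁻¹ = tOg g := tO_inv _

theorem inv1_letter {g : ℕ} (hg : g < 8) : Inv1 (sg (g + 1)) (tOg (g + 1)) := by
  intro pt hpt
  have e : lab (sg (g + 1) pt) = labF (ctF (g + 1) pt.val) := by
    unfold lab
    rw [sg_apply (by omega)]
  rw [e]
  obtain ⟨h2, μ, hμ, h3⟩ := chk1_spec hg pt.isLt hpt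
  refine ⟨h2, -μ, neg_ne_zero.2 hμ, ?_⟩
  rw [tOg_def, tO_apply, ← decO_rfK _ _ (by rw [gv_Q_spec hg]; norm_num)]
  unfold lab
  rw [h3, neg_smul]

theorem letter_mem_RO {g : ℕ} (hg : g < 8) : (sg (g + 1), tOg (g + 1)) ∈ RO := by
  refine ⟨inv1_letter hg, ?_⟩
  change Inv1 (sg (g + 1))⁻¹ (tOg (g + 1))⁻¹
  rw [sg_inv, tOg_inv]
  exact inv1_letter hg

theorem Q_gv {g : ℕ} (hg : g < 8) : Q3 (decO (gvO (g + 1))) = -1 := by
  rw [← QC_spec, gv_Q_spec hg]
  decide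

theorem tOg_mem {g : ℕ} (hg : g < 8) : tOg (g + 1) ∈ OmA := tO_mem (Q_gv hg)

/-- an isometry related to the identity commutes with the isometries of the labels. -/
theorem comm_of_rel {m : IQ} (h : ((1 : Equiv.Perm (Fin nP)), m) ∈ RO) {pt : Fin nP}
    (hpt : lab pt < 16384) : m * tO (decO (lab pt)) = tO (decO (lab pt)) * m := by
  obtain ⟨_, μ, hμ, e⟩ := h.1 pt hpt
  have e1 : (1 : Equiv.Perm (Fin nP)) pt = pt := rfl
  rw [e1] at e
  have h2 := tO_conj m (decO (lab pt))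
  rw [e, tO_smul hμ] at h2
  calc m * tO (decO (lab pt)) = m * tO (decO (lab pt)) * m⁻¹ * m := by
        rw [inv_mul_cancel_right]
    _ = tO (decO (lab pt)) * m := by rw [h2]

end Cfsg.Agent.Helper9.Fi22O
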