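import Mathlib
import Cfsg.Agent.Helper9.Fi22O.Rel
import Cfsg.Agent.Helper8.OmegaSimple
import Cfsg.Agent.Helper8.OmegaCenterMat

set_option autoImplicit false

/-!
The isometries of the last eight letters generate the commutator subgroup of the isometry group of
the form `x₀² + x₁y₁ + x₂y₂ + x₃y₃` over the field with three elements.
-/

namespace Cfsg.Agent.Helper9.Fi22O

open Cfsg Cfsg.Spor Cfsg.Agent.Helper5.TC Cfsg.Agent.Helper5.Fi22cTC
open Cfsg.Agent.Helper9.J3 Cfsg.Agent.Helper9.J3C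
open Cfsg.Agent.Helper9.Fi22U (nP sg sg_apply sg_inv sg_sq orB orB_true impB impB_true)
open Cfsg.Agent.Helper8.Reflections Cfsg.Agent.Helper8.OrthOrder Cfsg.Agent.Helper8.SiegelGroup
open Cfsg.Agent.Helper8.StdForms Cfsg.Agent.Helper8.QuadForm

/-- the subgroup generated by the isometries of the letters. -/
noncomputable def MS : Subgroup IQ :=
  Subgroup.closure (Set.range (fun g : Fin 8 => tOg (g.val + 1)))

theorem tOg_mem_MS {g : ℕ} (hg : g < 8) : tOg (g + 1) ∈ MS :=
  Subgroup.subset_closure ⟨⟨g, hg⟩, rfl⟩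

theorem MS_le : MS ≤ OmA := by
  unfold MS
  rw [Subgroup.closure_le]
  rintro _ ⟨g, rfl⟩
  exact tOg_mem g.isLt

theorem chkT_spec {v : ℕ} (hv : v < 3510) (hl : labF v < 16384) :
    v = 2 ∨ ∃ p, p < 3510 ∧ labF p < 16384 ∧ depF p < depF v ∧
      ∃ g, g < 8 ∧ ctF (g + 1) p = v := by
  have h1 := impB_true (allB_true chkT_all hv) ((isL_iff v).2 hl)
  rcases orB_true h1 with h | h
  · exact Or.inl (Nat.eq_of_beq_eq_true h)
  · right
    rw [sapp_eq] at h
    obtain ⟨h2, h3⟩ := andB_true h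
    obtain ⟨h4, h5⟩ := andB_true h3
    obtain ⟨h6, h7⟩ := andB_true h5
    rw [Nat.blt_eq] at h2 h6
    rw [sapp_eq] at h7
    obtain ⟨a1, a2⟩ := andB_true h7
    obtain ⟨a3, a4⟩ := andB_true a2
    rw [Nat.blt_eq] at a1 a3
    refine ⟨parF v, h2, (isL_iff _).1 h4, h6, genF v - 1, by omega, ?_⟩
    have : genF v - 1 + 1 = genF v := by omega
    rw [this]
    exact Nat.eq_of_beq_eq_true a4

/-- one step along the tree. -/
theorem step {h : Equiv.Perm (Fin nP)} {m : IQ} (hi : Inv1 h m) (hm : m ∈ MS) {p : Fin nP}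
    (hl : lab p < 16384) (h1 : tO (decO (lab p)) ∈ MS) : tO (decO (lab (h p))) ∈ MS := by
  obtain ⟨_, μ, hμ, e⟩ := hi p hl
  have h2 := tO_conj m (decO (lab p))
  rw [e, tO_smul hμ] at h2
  rw [← h2]
  exact MS.mul_mem (MS.mul_mem hm h1) (MS.inv_mem hm)

/-- the isometry of the label of every point is in the subgroup. -/
theorem T_lab_mem : ∀ n : ℕ, ∀ v : Fin nP, depF v.val = n → lab v < 16384 →
    tO (decO (lab v)) ∈ MS := by
  intro n
  induction n using Nat.strong_induction_on with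
  | _ n ih =>
    intro v hn hl
    rcases chkT_spec v.isLt hl with h2 | ⟨p, hp, hlp, hdep, g, hg, e⟩
    · have e : lab v = gvO 1 := by
        unfold lab
        rw [h2]
        exact root_lab
      rw [e]
      exact tOg_mem_MS (g := 0) (by norm_num)
    · rw [hn] at hdep
      have i1 := ih (depF p) hdep ⟨p, hp⟩ rfl hlp
      have ev : v = sg (g + 1) ⟨p, hp⟩ := by
        apply Fin.ext
        rw [sg_apply (by omega)]
        exact e.symm
      rw [ev]
      exact step (inv1_letter hg) (tOg_mem_MS hg) hlp i1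

theorem decO_ngK_ngK (c : ℕ) : decO (ngK (ngK c)) = decO c := by
  rw [decO_ngK, decO_ngK, neg_neg]

theorem chkF_spec {c : ℕ} (hc : c < 16384) (hq : QC c = 2) :
    ∃ p, p < 3510 ∧ labF p < 16384 ∧ ∃ μ : ZMod 3, μ ≠ 0 ∧ decO c = μ • decO (labF p) := by
  have h1 := impB_true (allB_true chkF_all hc) (by rw [hq]; rfl)
  rw [sapp_eq, sapp_eq] at h1
  obtain ⟨h2, h3⟩ := andB_true h1
  obtain ⟨h4, h5⟩ := andB_true h3
  rw [Nat.blt_eq] at h2
  obtain ⟨μ, hμ, e⟩ := propS_spec h5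
  rw [decO_ngK_ngK] at e
  exact ⟨_, h2, (isL_iff _).1 h4, μ, hμ, e⟩

theorem QC_encO {v : V7} (hv : Q3 v = -1) : QC (encO v) = 2 := by
  have h1 := QC_spec (encO v)
  rw [decO_encO, hv] at h1
  have h2 := QC_lt (encO v)
  generalize QC (encO v) = n at h1 h2
  interval_cases n
  · exact absurd h1 (by decide)
  · exact absurd h1 (by decide)
  · rfl

/-- every vector on which the form is `-1` is a multiple of the label of a point. -/
theorem exists_lab {v : V7} (hv : Q3 v = -1) :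
    ∃ p : Fin nP, lab p < 16384 ∧ ∃ μ : ZMod 3, μ ≠ 0 ∧ v = μ • decO (lab p) := by
  obtain ⟨p, hp, hl, μ, hμ, e⟩ := chkF_spec (encO_lt v) (QC_encO hv)
  rw [decO_encO] at e
  exact ⟨⟨p, hp⟩, hl, μ, hμ, e⟩

theorem tO_mem_MS {v : V7} (hv : Q3 v = -1) : tO v ∈ MS := by
  obtain ⟨p, hl, μ, hμ, e⟩ := exists_lab hv
  rw [e, tO_smul hμ]
  exact T_lab_mem _ p rfl hl

theorem conj_mem_MS (g : IQ) {n : IQ} (hn : n ∈ MS) : g * n * g⁻¹ ∈ MS := by
  unfold MS at hn
  induction hn using Subgroup.closure_induction with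
  | mem x hx =>
    obtain ⟨k, rfl⟩ := hx
    change g * tOg (k.val + 1) * g⁻¹ ∈ MS
    rw [tOg_def, tO_conj]
    apply tO_mem_MS
    rw [g.2, Q_gv k.isLt]
  | one =>
    rw [mul_one, mul_inv_cancel]
    exact MS.one_mem
  | mul x y _ _ hx hy =>
    have e : g * (x * y) * g⁻¹ = (g * x * g⁻¹) * (g * y * g⁻¹) := by
      simp only [mul_assoc, inv_mul_cancel_left]
    rw [e]
    exact MS.mul_mem hx hy
  | inv x _ hx =>
    have e : g * x⁻¹ * g⁻¹ = (g * x * g⁻¹)⁻¹ := by
      simp only [mul_inv_rev, inv_inv, mul_assoc]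
    rw [e]
    exact MS.inv_mem hx

instance MS_normal : MS.Normal := ⟨fun _ hn g => conj_mem_MS g hn⟩

/-! ### the commutator subgroup is simple -/

theorem two_ne : (2 : ZMod 3) ≠ 0 := by decide

theorem Q3_nondeg : (QuadraticMap.polarBilin Q3).Nondegenerate := oddForm_nondeg (ZMod 3) 3 two_ne

theorem card_I7 : Fintype.card I7 = 7 := by
  simp only [Fintype.card_sum, Fintype.card_unique, Fintype.card_fin]

theorem OmA_eq : OmA = SG Q3 :=
  commutator_eq_SG Q3 ((nondeg_iff Q3).mp Q3_nondeg)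
    (by rw [Cfsg.Agent.Helper8.OmegaSimple.finrank_fun, card_I7]; norm_num)
    (Cfsg.Agent.Helper8.OmegaSimple.closure_reflG Q3 Q3_nondeg (by rw [card_I7]; norm_num))

/-- the commutator subgroup of the group of matrices is isomorphic to the one of the group of
linear maps. -/
noncomputable def eOm : ↥(Cfsg.Omega (ZMod 3) ⇑Q3) ≃* ↥OmA :=
  (Cfsg.Agent.Helper8.OmegaSimple.omegaEquiv Q3 Q3_nondeg (by rw [card_I7]; norm_num)).trans
    (MulEquiv.subgroupCongr OmA_eq.symm)

theorem center_Omega : Subgroup.center ↥(Cfsg.Omega (ZMod 3) ⇑Q3) = ⊥ :=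
  Cfsg.Agent.Helper8.OmegaCenter.center_omega_eq_bot Q3 two_ne Q3_nondeg
    (by rw [card_I7]; norm_num) (by rw [card_I7]; decide)

theorem center_OmA : Subgroup.center ↥OmA = ⊥ := by
  rw [eq_bot_iff]
  intro z hz
  rw [Subgroup.mem_bot]
  have h1 : eOm.symm z ∈ Subgroup.center ↥(Cfsg.Omega (ZMod 3) ⇑Q3) := by
    rw [Subgroup.mem_center_iff] at hz ⊢
    intro y
    have := hz (eOm y)
    apply eOm.injective
    rw [map_mul, map_mul, MulEquiv.apply_symm_apply]
    exact this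
  rw [center_Omega, Subgroup.mem_bot] at h1
  have := congrArg eOm h1
  rwa [MulEquiv.apply_symm_apply, map_one] at this

/-- the commutator subgroup is isomorphic to the projective group. -/
noncomputable def ePO : ↥OmA ≃* Cfsg.POmega (ZMod 3) ⇑Q3 :=
  eOm.symm.trans ((QuotientGroup.quotientBot (G := ↥(Cfsg.Omega (ZMod 3) ⇑Q3))).symm.trans
    (QuotientGroup.quotientMulEquivOfEq center_Omega.symm))

instance OmA_simple : IsSimpleGroup ↥OmA := by
  have : IsSimpleGroup (Cfsg.POmega (ZMod 3) ⇑Q3) :=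
    Cfsg.Agent.Helper8.OmegaSimple.isSimpleGroup_POmega Q3 Q3_nondeg (by rw [card_I7]; norm_num)
  exact ePO.isSimpleGroup

theorem crd_vals : crd (ngK (rfK (gvO 1) 1)) 0 = 0 ∧ crd 1 0 = 1 ∧ QC (gvO 1) = 2 := by
  decide +kernel

theorem tOg_one_ne : tOg 1 ≠ 1 := by
  intro h
  have h1 : (tOg 1).1 (decO 1) = decO 1 := by
    rw [h]
    rfl
  rw [tOg_def, tO_apply, ← decO_rfK _ _ (by rw [crd_vals.2.2]; norm_num), ← decO_ngK] at h1
  have h2 := congrFun h1 (Sum.inl ())
  rw [decO_apply, decO_apply] at h2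
  change ((crd (ngK (rfK (gvO 1) 1)) 0 : ℕ) : ZMod 3) = ((crd 1 0 : ℕ) : ZMod 3) at h2
  rw [crd_vals.1, crd_vals.2.1] at h2
  exact absurd h2 (by decide)

/-- the isometries of the letters generate the commutator subgroup. -/
theorem MS_eq : MS = OmA := by
  apply le_antisymm MS_le
  have hN : (MS.subgroupOf OmA).Normal := inferInstance
  rcases IsSimpleGroup.eq_bot_or_eq_top_of_normal _ hN with h | h
  · exfalso
    rw [Subgroup.subgroupOf_eq_bot] at h
    have h1 : tOg 1 ∈ MS ⊓ OmA := ⟨tOg_mem_MS (g := 0) (by norm_num), tOg_mem (g := 0) (by norm_num)⟩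
    rw [h.eq_bot, Subgroup.mem_bot] at h1
    exact tOg_one_ne h1
  · rwa [Subgroup.subgroupOf_eq_top] at h

end Cfsg.Agent.Helper9.Fi22O
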