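import Mathlib
import Cfsg.Agent.Helper9.Fi22U.Hom
import Cfsg.Agent.S1685

set_option autoImplicit false

/-!
The subgroup generated by the last eight letters of the presented Fischer group as a group of
permutations of the 3510 points, and its order.
-/

namespace Cfsg.Agent.Helper9.Fi22O

open Cfsg Cfsg.Spor Cfsg.Agent.Helper9.Fi22U

/-- the last eight letters as permutations. -/
noncomputable def hset2 : Set (Equiv.Perm (Fin nP)) :=
  {sg 1, sg 2, sg 3, sg 4, sg 5, sg 6, sg 7, sg 8}

/-- the subgroup generated by `b, c, d, e, f, g, h, i` as a group of permutations. -/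
noncomputable def H2P : Subgroup (Equiv.Perm (Fin nP)) := Subgroup.closure hset2

/-- the subgroup of the presented group. -/
abbrev H2 : Subgroup Fi22 :=
  (Subgroup.closure ({Fi22.b, Fi22.c, Fi22.d, Fi22.e, Fi22.f, Fi22.g, Fi22.h, Fi22.i} :
    Set (FreeGroup Fi22.Gen))).map (PresentedGroup.mk rels)

theorem map_H2 : H2.map phi = H2P := by
  unfold H2 H2P
  rw [Subgroup.map_map, MonoidHom.map_closure]
  unfold hset2
  congr 1
  simp only [Set.image_insert_eq, Set.image_singleton, MonoidHom.comp_apply, phi_mk]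
  simp only [Fi22.b, Fi22.c, Fi22.d, Fi22.e, Fi22.f, Fi22.g, Fi22.h, Fi22.i,
    FreeGroup.lift_apply_of]
  rfl

/-- the subgroup of the presented group is isomorphic to the group of permutations. -/
noncomputable def eH2 : ↥H2 ≃* ↥H2P :=
  (H2.equivMapOfInjective phi phi_injective).trans (MulEquiv.subgroupCongr map_H2)

theorem index_H2 : H2.index = 14080 := Cfsg.Agent.S1685.result

theorem card_H2P : Nat.card ↥H2P = 4585351680 := by
  rw [← Nat.card_congr eH2.toEquiv]
  have h1 := Subgroup.index_mul_card H2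
  rw [index_H2, Cfsg.Agent.S1696.result.2] at h1
  omega

theorem sg_mem_H2P {x : ℕ} (hx : x < 8) : sg (x + 1) ∈ H2P := by
  apply Subgroup.subset_closure
  unfold hset2
  interval_cases x <;> simp

/-- the cases of a generator. -/
theorem hset2_cases {g : Equiv.Perm (Fin nP)} (hg : g ∈ hset2) : ∃ x, x < 8 ∧ g = sg (x + 1) := by
  unfold hset2 at hg
  simp only [Set.mem_insert_iff, Set.mem_singleton_iff] at hg
  rcases hg with h | h | h | h | h | h | h | h
  · exact ⟨0, by norm_num, h⟩
  · exact ⟨1, by norm_num, h⟩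
  · exact ⟨2, by norm_num, h⟩
  · exact ⟨3, by norm_num, h⟩
  · exact ⟨4, by norm_num, h⟩
  · exact ⟨5, by norm_num, h⟩
  · exact ⟨6, by norm_num, h⟩
  · exact ⟨7, by norm_num, h⟩

end Cfsg.Agent.Helper9.Fi22O
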