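import Mathlib
import Cfsg.Agent.Helper9.Fi22O.Gen
import Cfsg.Agent.Helper9.Fi22O.Hom2
import Cfsg.Agent.Helper9.Fi22U.Cover
import Cfsg.Agent.S0292

set_option autoImplicit false

/-!
The subgroup generated by the last eight letters of the presented Fischer group is isomorphic to
the projective commutator subgroup of the isometry group of the form `x₀² + x₁y₁ + x₂y₂ + x₃y₃`
over the field with three elements.
-/

namespace Cfsg.Agent.Helper9.Fi22O

open Cfsg Cfsg.Spor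
open Cfsg.Agent.Helper9.Fi22U (nP sg sg_apply sg_inv sg_sq hom_of_graph)
open Cfsg.Agent.Helper8.Reflections Cfsg.Agent.Helper8.OrthOrder Cfsg.Agent.Helper8.SiegelGroup
open Cfsg.Agent.Helper8.StdForms Cfsg.Agent.Helper8.QuadForm

/-- an isometry related to the identity commutes with the negatives of the reflections. -/
theorem comm_all {m : IQ} (h : ((1 : Equiv.Perm (Fin nP)), m) ∈ RO) {v : V7} (hv : Q3 v = -1) :
    m * tO v = tO v * m := by
  obtain ⟨p, hl, μ, hμ, e⟩ := exists_lab hv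
  rw [e, tO_smul hμ]
  exact comm_of_rel h hl

theorem comm_OmA {m : IQ} (h : ((1 : Equiv.Perm (Fin nP)), m) ∈ RO) {y : IQ} (hy : y ∈ OmA) :
    y * m = m * y := by
  rw [← MS_eq] at hy
  have hle : MS ≤ Subgroup.centralizer {m} := by
    unfold MS
    rw [Subgroup.closure_le]
    rintro _ ⟨k, rfl⟩
    rw [SetLike.mem_coe, Subgroup.mem_centralizer_iff]
    intro x hx
    rw [Set.mem_singleton_iff] at hx
    subst hx
    exact comm_all h (Q_gv k.isLt)
  have h2 := hle hy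
  rw [Subgroup.mem_centralizer_iff] at h2
  exact (h2 m rfl).symm

/-- the relation on the subgroups. -/
noncomputable def RH : Subgroup (↥H2P × ↥OmA) :=
  RO.comap (MonoidHom.prodMap H2P.subtype OmA.subtype)

theorem exists_rel : ∀ h ∈ H2P, ∃ m : IQ, m ∈ OmA ∧ (h, m) ∈ RO := by
  intro h hh
  unfold H2P at hh
  induction hh using Subgroup.closure_induction with
  | mem x hx =>
    obtain ⟨k, hk, rfl⟩ := hset2_cases hx
    exact ⟨tOg (k + 1), tOg_mem hk, letter_mem_RO hk⟩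
  | one => exact ⟨1, OmA.one_mem, RO.one_mem⟩
  | mul x y _ _ hx hy =>
    obtain ⟨m, hm, r⟩ := hx
    obtain ⟨m', hm', r'⟩ := hy
    exact ⟨m * m', OmA.mul_mem hm hm', RO.mul_mem r r'⟩
  | inv x _ hx =>
    obtain ⟨m, hm, r⟩ := hx
    exact ⟨m⁻¹, OmA.inv_mem hm, RO.inv_mem r⟩

theorem exists_rel' : ∀ m ∈ MS, ∃ h : Equiv.Perm (Fin nP), h ∈ H2P ∧ (h, m) ∈ RO := by
  intro m hm
  unfold MS at hm
  induction hm using Subgroup.closure_induction with
  | mem x hx =>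
    obtain ⟨k, rfl⟩ := hx
    exact ⟨sg (k.val + 1), sg_mem_H2P k.isLt, letter_mem_RO k.isLt⟩
  | one => exact ⟨1, H2P.one_mem, RO.one_mem⟩
  | mul x y _ _ hx hy =>
    obtain ⟨m, hm, r⟩ := hx
    obtain ⟨m', hm', r'⟩ := hy
    exact ⟨m * m', H2P.mul_mem hm hm', RO.mul_mem r r'⟩
  | inv x _ hx =>
    obtain ⟨m, hm, r⟩ := hx
    exact ⟨m⁻¹, H2P.inv_mem hm, RO.inv_mem r⟩

theorem exists_theta : ∃ θ : ↥H2P →* ↥OmA ⧸ Subgroup.center ↥OmA,
    ∀ (h : ↥H2P) (s : ↥OmA), (h.1, s.1) ∈ RO → θ h = (s : ↥OmA ⧸ Subgroup.center ↥OmA) := by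
  obtain ⟨θ, hθ⟩ := hom_of_graph (Subgroup.center ↥OmA) RH (fun s hs => by
    rw [Subgroup.mem_center_iff]
    intro y
    apply Subtype.ext
    have hs' : ((1 : Equiv.Perm (Fin nP)), s.1) ∈ RO := hs
    exact comm_OmA hs' y.2) (fun h => by
    obtain ⟨m, hm, r⟩ := exists_rel h.1 h.2
    exact ⟨⟨m, hm⟩, r⟩)
  exact ⟨θ, fun h s hs => hθ h s hs⟩

theorem theta_surj (θ : ↥H2P →* ↥OmA ⧸ Subgroup.center ↥OmA)
    (hθ : ∀ (h : ↥H2P) (s : ↥OmA), (h.1, s.1) ∈ RO →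
      θ h = (s : ↥OmA ⧸ Subgroup.center ↥OmA)) : Function.Surjective θ := by
  intro t
  obtain ⟨s, rfl⟩ := QuotientGroup.mk_surjective t
  have hs : s.1 ∈ MS := by
    rw [MS_eq]
    exact s.2
  obtain ⟨h, hh, r⟩ := exists_rel' s.1 hs
  exact ⟨⟨h, hh⟩, hθ ⟨h, hh⟩ s r⟩

theorem Q_eq : Cfsg.quadFormOdd 3 (ZMod 3) = ⇑Q3 :=
  funext (fun v => (oddForm_apply (ZMod 3) 3 v).symm)

theorem card_POmega : Nat.card (Cfsg.POmega (ZMod 3) ⇑Q3) = 4585351680 := by
  have h := Cfsg.Agent.S0292.result (F := ZMod 3) (q := 3) (ZMod.card 3) (by decide) 3 (le_refl 3)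
  rw [Q_eq] at h
  have hp : (3 ^ 3 ^ 2 * ∏ i ∈ Finset.range 3, (3 ^ (2 * (i + 1)) - 1)) = 9170703360 := by
    simp [Finset.prod_range_succ]
  rw [hp] at h
  omega

/-- the quotient of the commutator subgroup by its centre is isomorphic to the projective
group. -/
noncomputable def eQ : (↥OmA ⧸ Subgroup.center ↥OmA) ≃* Cfsg.POmega (ZMod 3) ⇑Q3 :=
  ((QuotientGroup.quotientMulEquivOfEq center_OmA).trans QuotientGroup.quotientBot).trans ePO

theorem card_quot : Nat.card (↥OmA ⧸ Subgroup.center ↥OmA) = 4585351680 := by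
  rw [Nat.card_congr eQ.toEquiv, card_POmega]

theorem main : Nonempty (↥H2 ≃* Cfsg.POmega (ZMod 3) (Cfsg.quadFormOdd 3 (ZMod 3))) := by
  rw [Q_eq]
  obtain ⟨θ, hθ⟩ := exists_theta
  have hs := theta_surj θ hθ
  have : Finite ↥H2P := Nat.finite_of_card_ne_zero (by rw [card_H2P]; norm_num)
  have hb : Function.Bijective θ :=
    (Nat.bijective_iff_surjective_and_card θ).2 ⟨hs, by rw [card_H2P, card_quot]⟩
  exact ⟨eH2.trans ((MulEquiv.ofBijective θ hb).trans eQ)⟩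

end Cfsg.Agent.Helper9.Fi22O
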